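import Mathlib
import Cfsg.Agent.Lib.Co1Loc.Chain
import Cfsg.Agent.Lib.Co1Rec.Word
import Cfsg.Agent.Lib.AltCover.Pres
import Cfsg.Agent.Lib.MType.Odd

/-!
Lists of matrices in `Co0`, words in them, and direct products inside a group.
-/

set_option autoImplicit false

namespace CfsgLib.Co1Loc

open Cfsg CfsgLib.Leech CfsgLib.Golay CfsgLib.Co1Rec CfsgLib.MType CfsgLib.AltCover Subgroup
open CfsgLib.Comput (force force_eq nth nth_mem_or)

/-- the identity matrix -/
def idM : ℕ × ℕ := (0x0, 0x80000000000000000000000000000000010000000000000000000000000000000002000000000000000000000000000000000400000000000000000000000000000000080000000000000000000000000000000010000000000000000000000000000000002000000000000000000000000000000000400000000000000000000000000000000080000000000000000000000000000000010000000000000000000000000000000002000000000000000000000000000000000400000000000000000000000000000000080000000000000000000000000000000010000000000000000000000000000000002000000000000000000000000000000000400000000000000000000000000000000080000000000000000000000000000000010000000000000000000000000000000002000000000000000000000000000000000400000000000000000000000000000000080000000000000000000000000000000010000000000000000000000000000000002000000000000000000000000000000000400000000000000000000000000000)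

/-- the elements of a list of matrices -/
noncomputable def mE (L : List (ℕ × ℕ)) (i : ℕ) : Co0 := mG (nth idM L i).1 (nth idM L i).2

/-- their action on codes -/
noncomputable def mF (L : List (ℕ × ℕ)) (i : ℕ) : ℕ → ℕ := act2 (nth idM L i).1 (nth idM L i).2

/-- the test for a list of matrices -/
noncomputable def lOK (L : List (ℕ × ℕ)) : Bool := allL L fun p => mOK p.1 p.2

theorem sim_mE {L : List (ℕ × ℕ)} (h : lOK L = true) (i : ℕ) : Sim (mE L i) (mF L i) := by
  refine sim_mG ((nth_mem_or idM L i).elim ((allL_iff _ _).1 h _) fun e => ?_)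
  rw [e]; decide +kernel

/-- the value of a word -/
noncomputable def wd {G : Type*} [Group G] (y : ℕ → G) (w : List ℕ) : G := (w.map y).prod

/-- the action of a word -/
noncomputable def wA (F : ℕ → ℕ → ℕ) (w : List ℕ) : ℕ → ℕ :=
  List.rec (fun N => N) (fun i _ ih N => F i (ih N)) w

theorem sim_wd {y : ℕ → Co0} {F : ℕ → ℕ → ℕ} (h : ∀ i, Sim (y i) (F i)) (w : List ℕ) :
    Sim (wd y w) (wA F w) := by
  induction w with
  | nil => exact Sim.one
  | cons i w ih => rw [wd, List.map_cons, List.prod_cons]; exact (h i).mul ih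

theorem wd_mem {G : Type*} [Group G] {y : ℕ → G} {H : Subgroup G} {w : List ℕ}
    (h : ∀ i ∈ w, y i ∈ H) : wd y w ∈ H :=
  list_prod_mem fun x hx => by obtain ⟨i, hi, rfl⟩ := List.mem_map.1 hx; exact h i hi

theorem map_wd {G H : Type*} [Group G] [Group H] (f : G →* H) (y : ℕ → G) (w : List ℕ) :
    f (wd y w) = wd (fun i => f (y i)) w := by
  rw [wd, wd, map_list_prod, List.map_map]; rfl

/-- the test for `±1` -/
noncomputable def pmB (f : ℕ → ℕ) : Bool :=
  eqB f (fun N => N) || eqB f fun N => Nat.sub 0x1084210842108421084210842108420 N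

theorem pmB_iff {g : Co0} {f : ℕ → ℕ} (hg : Sim g f) : pmB f = true ↔ (g : Spor.Co1) = 1 := by
  rw [pmB, Bool.or_eq_true, mk_eq_one_co1]
  exact or_congr ⟨hg.ext Sim.one, fun e => by_contra fun h => hg.ne Sim.one (by simpa using h) e⟩
    ⟨hg.ext sim_neg, fun e => by_contra fun h => hg.ne sim_neg (by simpa using h) e⟩

theorem mk_one {g : Co0} {f : ℕ → ℕ} (hg : Sim g f) (h : pmB f = true) : (g : Spor.Co1) = 1 :=
  (pmB_iff hg).1 h

theorem mk_ne_one {g : Co0} {f : ℕ → ℕ} (hg : Sim g f) (h : pmB f = false) : (g : Spor.Co1) ≠ 1 :=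
  fun e => by simp [(pmB_iff hg).2 e] at h

/-- the test for commuting elements -/
noncomputable def comB (f g : ℕ → ℕ) : Bool := eqB (fun N => f (g N)) fun N => g (f N)

theorem comm_of {a b : Co0} {f g : ℕ → ℕ} (ha : Sim a f) (hb : Sim b g) (h : comB f g = true) :
    a * b = b * a := (ha.mul hb).ext (hb.mul ha) h

theorem mk_comm {a b : Co0} (h : a * b = b * a) : (a : Spor.Co1) * b = b * a :=
  congrArg QuotientGroup.mk h

/-- the powers -/
noncomputable def pows (f : ℕ → ℕ) (n : ℕ) : List (ℕ → ℕ) := Nat.rec [] (fun k ih => iter f k :: ih) n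

theorem cent_pows {x : Co0} {f : ℕ → ℕ} (h : Sim x f) (n : ℕ) :
    Cent (centralizer {x}) (pows f n) := by
  induction n with
  | zero => exact fun _ h => absurd h List.not_mem_nil
  | succ n ih =>
    exact List.forall_mem_cons.2 ⟨⟨_, h.pow n, fun g hg =>
      (Commute.pow_right (mem_centralizer_singleton_iff.1 hg) n).eq⟩, ih⟩

/-- the test for Moore's relations -/
noncomputable def mooreB (F : ℕ → ℕ → ℕ) (m : ℕ) : Bool := pmB (iter (F 1) 3) && !pmB (F 1) &&
  allLT m fun i => (Nat.blt i 2 || pmB (iter (F i) 2)) && (Nat.blt i 1 || allLT m fun j =>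
    Nat.ble j i || pmB (iter (fun N => F i (F j N)) (Bool.rec 2 3 (Nat.beq j (Nat.succ i)))))

theorem exists_alt {y : ℕ → Co0} {F : ℕ → ℕ → ℕ} (hy : ∀ i, Sim (y i) (F i)) {m : ℕ} (hm : 4 ≤ m)
    (h : mooreB F m = true) : ∃ φ : alternatingGroup (Fin (m + 1)) →* Spor.Co1, Function.Injective φ ∧
      (∀ i, 1 ≤ i → i < m → φ (X m i) = y i) ∧
      ∀ H : Subgroup Spor.Co1, (∀ i, 1 ≤ i → i < m → (y i : Spor.Co1) ∈ H) → ∀ a, φ a ∈ H := by
  simp only [mooreB, Bool.and_eq_true, allLT_iff, Bool.or_eq_true, Nat.blt_eq, Nat.ble_eq,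
    Bool.not_eq_true'] at h
  have h1 : Moore m fun i => (y i : Spor.Co1) := ⟨fun _ => mk_one ((hy 1).pow 3) h.1.1,
    fun i h1 h2 => mk_one ((hy i).pow 2) ((h.2 i h2).1.resolve_left (by omega)),
    fun i h1 h2 => mk_one (((hy i).mul (hy _)).pow 3) (by
      simpa using (((h.2 i (by omega)).2.resolve_left (by omega)) _ h2).resolve_left (by omega)),
    fun i j h1 h2 h3 => mk_one (((hy i).mul (hy _)).pow 2) (by
      have := (((h.2 i (by omega)).2.resolve_left (by omega)) _ h3).resolve_left (by omega)
      rwa [show Nat.beq j i.succ = false from by simp [← Bool.not_eq_true]; omega] at this)⟩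
  obtain ⟨φ, hφ⟩ := h1.exists_hom
  have := alternatingGroup.isSimpleGroup (α := Fin (m + 1)) (by simp; omega)
  refine ⟨φ, (MonoidHom.ker_eq_bot_iff φ).1 ((φ.normal_ker.eq_bot_or_eq_top).resolve_right fun e =>
    mk_ne_one (hy 1) h.1.2 ((hφ 1 le_rfl (by omega)).symm.trans (by rw [← MonoidHom.mem_ker, e]; trivial))),
    hφ, fun H hH a => ?_⟩
  rw [← mem_comap, eq_top_of_X (H.comap φ) fun i h1 h2 => by rw [mem_comap, hφ i h1 h2]; exact hH i h1 h2]
  trivial

theorem card_cent_co1 {x : Co0} {n : ℕ} (hn : Odd n) (hx : x ^ n = 1) :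
    Nat.card (centralizer ({x} : Set Co0)) = 2 * Nat.card (centralizer ({(x : Spor.Co1)} : Set Spor.Co1)) := by
  rw [← card_comap_co1]
  congr 2
  ext g
  rw [mem_comap, mem_centralizer_singleton_iff, mem_centralizer_singleton_iff]
  exact ⟨mk_comm, comm_of_mk_comm hn hx⟩

variable {A B G : Type*} [Group A] [Group B] [Group G]

theorem eq_of_card_lt [Finite G] {H K : Subgroup G} (h : H ≤ K) (hc : Nat.card K < 2 * Nat.card H) :
    H = K := by
  obtain ⟨k, hk⟩ := card_dvd_of_le h
  have h0 : 0 < Nat.card K := Nat.card_pos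
  refine eq_of_le_of_card_ge h ?_
  rcases k with _ | _ | k <;> nlinarith

theorem exists_prod [Finite G] (φ : A →* G) (ψ : B →* G) (hφ : Function.Injective φ)
    (hψ : Function.Injective ψ) (hc : ∀ a b, Commute (φ a) (ψ b)) (hZ : center B = ⊥) {H : Subgroup G}
    (hA : ∀ a, φ a ∈ H) (hB : ∀ b, ψ b ∈ H) (h : Nat.card H < 2 * (Nat.card A * Nat.card B)) :
    ∃ e : A × B ≃* H, ∀ a b, (e (a, b) : G) = φ a * ψ b := by
  have hi : Function.Injective (φ.noncommCoprod ψ hc) := (injective_iff_map_eq_one _).2 fun ⟨a, b⟩ e => by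
    have e : φ a * ψ b = 1 := e
    have : b ∈ center B := mem_center_iff.2 fun c => hψ (by
      rw [map_mul, map_mul, eq_inv_of_mul_eq_one_right e]; exact (hc a c).inv_left.eq.symm)
    rw [hZ, mem_bot] at this
    rw [this, map_one, mul_one, map_eq_one_iff _ hφ] at e
    rw [this, e]; rfl
  have he : (φ.noncommCoprod ψ hc).range = H := eq_of_card_lt
    (by rintro _ ⟨⟨a, b⟩, rfl⟩; exact mul_mem (hA a) (hB b))
    (by rwa [← Nat.card_congr (MonoidHom.ofInjective hi).toEquiv, Nat.card_prod])
  exact ⟨(MonoidHom.ofInjective hi).trans (MulEquiv.subgroupCongr he), fun _ _ => rfl⟩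

theorem center_simple [IsSimpleGroup B] (h : ¬ IsCyclic B) : center B = ⊥ :=
  (Subgroup.normal_of_characteristic _ |>.eq_bot_or_eq_top).resolve_right fun e => h (by
    let _ : CommGroup B := Group.commGroupOfCenterEqTop e
    exact IsSimpleGroup.isCyclic)

theorem cent_zpowers (x : G) : centralizer (zpowers x : Set G) = centralizer {x} := by
  rw [zpowers_eq_closure, centralizer_closure]

theorem exists_prod_cyc [Finite G] {p : ℕ} [Fact p.Prime] {x : G} (hx : orderOf x = p) (ψ : B →* G)
    (hψ : Function.Injective ψ) (hc : ∀ b, ψ b ∈ centralizer {x}) (hZ : center B = ⊥)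
    (h : Nat.card (centralizer ({x} : Set G)) < 2 * (p * Nat.card B)) :
    ∃ e : Multiplicative (ZMod p) × B ≃* centralizer (zpowers x : Set G), ∀ b, (e (1, b) : G) = ψ b := by
  let e : Multiplicative (ZMod p) ≃* zpowers x :=
    mulEquivOfPrimeCardEq (p := p) (by simp) (by rw [Nat.card_zpowers, hx])
  rw [← cent_zpowers] at hc h
  obtain ⟨f, hf⟩ := exists_prod ((zpowers x).subtype.comp e.toMonoidHom) ψ
    ((subtype_injective _).comp e.injective) hψ (fun a b => hc b _ (e a).2) hZ
    (fun a => le_centralizer _ (e a).2) hc (by simpa using h)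
  exact ⟨f, fun b => by rw [hf, map_one, one_mul]⟩

theorem exists_s3 {x i : G} (hx : orderOf x = 3) (hi : i * i = 1) (h : i * x * i = x⁻¹) :
    ∃ φ : Equiv.Perm (Fin 3) →* G, Function.Injective φ ∧
      ∀ H : Subgroup G, x ∈ H → i ∈ H → ∀ a, φ a ∈ H := by
  have h3 : x * x * x = 1 := by rw [← pow_three', ← hx, pow_orderOf_eq_one]
  obtain ⟨φ, hφ⟩ := ThreeTrans.exists_hom_of_coxeter (n := 2) (f := fun k => if k = 0 then i else i * x)
    (fun k hk => by
      interval_cases k
      · exact hi
      · exact (mul_assoc _ _ _).symm.trans (by rw [if_neg one_ne_zero, h, inv_mul_cancel]))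
    (fun k hk => by
      obtain rfl : k = 0 := by omega
      show i * (i * x) * i = i * x * i * (i * x)
      rw [h, ← mul_assoc, hi, one_mul, eq_inv_mul_iff_mul_eq, ← mul_left_inj i, mul_assoc, mul_assoc x i,
        hi, h, mul_one]
      exact eq_inv_of_mul_eq_one_left h3) (fun _ _ _ _ => by omega)
  have e1 : φ (Equiv.swap 0 1) = i := hφ 0 1
  have e2 : φ (Equiv.swap 1 2) = i * x := hφ 1 2
  refine ⟨φ, ThreeTrans.injective_of_swaps' φ (a := 0) (b := 1) (c := 2) (by decide) (by decide)
    (by decide) (fun e => ?_) (Or.inl (by decide)), fun H h1 h2 a => ?_⟩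
  · have e := e.eq
    rw [e1, e2, h, ← mul_assoc, hi, one_mul, eq_inv_iff_mul_eq_one] at e
    rw [e, one_mul] at h3
    simp [h3] at hx
  · induction a using perm_induction with
    | h1 => rw [map_one]; exact one_mem _
    | h k hk g ih =>
      rw [map_mul]
      interval_cases k
      exacts [mul_mem (e1 ▸ h2) ih, mul_mem (e2 ▸ mul_mem h2 h1) ih]

theorem card_norm_le [Finite G] {x : G} {p : ℕ} (hx : orderOf x = p) :
    Nat.card (normalizer (zpowers x : Set G)) ≤ Nat.card (centralizer ({x} : Set G)) * p.totient := by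
  rw [card_eq_card_quotient_mul_card_subgroup (zpowers x).normalizerMonoidHom.ker, mul_comm,
    Nat.card_congr (QuotientGroup.quotientKerEquivRange _).toEquiv, normalizerMonoidHom_ker,
    ← cent_zpowers, ← hx, ← Nat.card_zpowers, ← IsCyclic.card_mulAut]
  exact Nat.mul_le_mul (Nat.card_congr (subgroupOfEquivOfLe (centralizer_le_normalizer _)).toEquiv).le
    (card_le_card_group _)

theorem center_alt {n : ℕ} (h : 5 ≤ n) : center (alternatingGroup (Fin n)) = ⊥ :=
  alternatingGroup.center_eq_bot (by simp; omega)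

theorem mem_norm_zpowers {x t : G} (ht : t * t = 1) (h : t * x * t ∈ zpowers x) :
    t ∈ normalizer (zpowers x : Set G) := by
  have e := inv_eq_of_mul_eq_one_right ht
  have h1 : ∀ y ∈ zpowers x, t * y * t⁻¹ ∈ zpowers x := by
    rintro _ ⟨k, rfl⟩
    rw [← conj_zpow, e]
    exact zpow_mem h k
  refine mem_normalizer_iff.2 fun y => ⟨h1 y, fun hy => ?_⟩
  have := h1 _ hy
  rwa [e, ← mul_assoc, ← mul_assoc, ht, one_mul, mul_assoc, ht, mul_one] at this

theorem card_alt {n k : ℕ} (h : (n + 2).factorial / 2 = k) : Nat.card (alternatingGroup (Fin (n + 2))) = k := by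
  rw [nat_card_alternatingGroup, Nat.card_fin, h]

end CfsgLib.Co1Loc
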